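import Cfsg.Agent.H13.GL23.Decomp

/-!
A family of generalised characters of norm two with pairwise products one, all of value `-1` at
the identity, has a common signed irreducible constituent.
-/

set_option autoImplicit false
set_option linter.unusedSectionVars false
set_option linter.style.haveILetI false

open Cfsg
open H13.GL23 (Signed1 ci_zero_comm int_bessel3 norm_two_split orth_of_split)

namespace H61.DegP

universe u

variable {L : Type u} [Group L] [Fintype L]

theorem signed_trivial : Signed1 (fun _ : L => (1 : ℂ)) :=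
  ⟨H16.gen_of_irr H12.isIrrCharacter_one, H16.ci_irr_self H12.isIrrCharacter_one⟩

theorem star {ι : Type*} [DecidableEq ι] (k₀ : ι) (R : ι → L → ℂ)
    (hRg : ∀ k, IsGeneralizedCharacter L (R k))
    (hR1 : ∀ k, classInner (R k) (fun _ => 1) = 0)
    (hRR : ∀ k l, classInner (R k) (R l) = if k = l then 2 else 1)
    (hRdeg : ∀ k, R k 1 = -1) :
    ∃ (V : L → ℂ) (Y : ι → L → ℂ),
      Signed1 V ∧ (∀ k, Signed1 (Y k)) ∧ classInner (fun _ => 1) V = 0 ∧
      (∀ k, classInner (fun _ => 1) (Y k) = 0) ∧ (∀ k, classInner V (Y k) = 0) ∧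
      (∀ k l, k ≠ l → classInner (Y k) (Y l) = 0) ∧ ∀ k, R k = V + Y k := by
  classical
  have h1 := signed_trivial (L := L)
  obtain ⟨A, B, hA, hB, hAB, e0⟩ := norm_two_split (hRg k₀) (by rw [hRR, if_pos rfl])
  have hA1 := orth_of_split hA h1 hAB (by rw [← e0]; exact hR1 k₀)
  have hB1 := orth_of_split hB h1 (ci_zero_comm hAB) (by rw [add_comm, ← e0]; exact hR1 k₀)
  by_cases hone : ∀ k, k = k₀
  · refine ⟨A, fun _ => B, hA, fun _ => hB, ci_zero_comm hA1, fun _ => ci_zero_comm hB1,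
      fun _ => hAB, fun k l hkl => absurd (by rw [hone k, hone l]) hkl, fun k => ?_⟩
    rw [hone k, e0]
  push Not at hone
  obtain ⟨k₁, hk₁⟩ := hone
  obtain ⟨a, ha⟩ := H16.gen_inner_int (hRg k₁) hA.1
  obtain ⟨b, hb⟩ := H16.gen_inner_int (hRg k₁) hB.1
  have hab : a + b = 1 := by
    have h := hRR k₁ k₀
    rw [e0, H16.ci_add_right, ha, hb, if_neg hk₁] at h
    exact_mod_cast h
  have hbes := int_bessel3 hA.2 hB.2 h1.2 hAB hA1 hB1 ha hb
    (show classInner (R k₁) (fun _ => 1) = ((0 : ℤ) : ℂ) by rw [hR1]; simp)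
    (show classInner (R k₁) (R k₁) = ((2 : ℤ) : ℂ) by rw [hRR]; norm_num)
  obtain ⟨V, hV, hV1, hV0, hVone⟩ : ∃ V, Signed1 V ∧ classInner V (fun _ => 1) = 0 ∧
      classInner (R k₀) V = 1 ∧ classInner (R k₁) V = 1 := by
    have hcase : a = 1 ∧ b = 0 ∨ a = 0 ∧ b = 1 := by
      have : 0 ≤ a ∧ a ≤ 1 := by constructor <;> nlinarith [show b = 1 - a by omega]
      omega
    rcases hcase with ⟨rfl, rfl⟩ | ⟨rfl, rfl⟩
    · exact ⟨A, hA, hA1, by rw [e0, H16.ci_add_left, hA.2, ci_zero_comm hAB, add_zero],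
        by rw [ha]; simp⟩
    · exact ⟨B, hB, hB1, by rw [e0, H16.ci_add_left, hB.2, hAB, zero_add], by rw [hb]; simp⟩
  set Y : ι → L → ℂ := fun k => R k - V with hY
  have prop : ∀ k, classInner (R k) V = 1 → Signed1 (Y k) ∧ classInner V (Y k) = 0 := fun k hk => by
    refine ⟨⟨H16.gen_sub (hRg k) hV.1, ?_⟩, ?_⟩
    · simp only [hY, H16.ci_sub_left, H16.ci_sub_right, hRR, if_pos, hk, hV.2,
        H16.ci_symm (R k) V, map_one]
      norm_num
    · simp only [hY, H16.ci_sub_right, H16.ci_symm (R k) V, hk, hV.2, map_one, sub_self]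
  have hcross : ∀ k l, k ≠ l → classInner (R k) V = 1 → classInner (R l) V = 1 →
      classInner (Y k) (Y l) = 0 := fun k l hkl hk hl => by
    simp only [hY, H16.ci_sub_left, H16.ci_sub_right, hRR, if_neg hkl, hk, hV.2,
      H16.ci_symm (R l) V, hl, map_one]
    norm_num
  have hall : ∀ k, classInner (R k) V = 1 := by
    intro k
    by_cases hk0 : k = k₀
    · rw [hk0]; exact hV0
    by_cases hk1 : k = k₁
    · rw [hk1]; exact hVone
    obtain ⟨v, hv⟩ := H16.gen_inner_int (hRg k) hV.1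
    have hc : classInner (R k) (Y k₀) = ((1 - v : ℤ) : ℂ) := by
      simp only [hY, H16.ci_sub_right, hRR, if_neg hk0, hv]
      push_cast; ring
    have hd : classInner (R k) (Y k₁) = ((1 - v : ℤ) : ℂ) := by
      simp only [hY, H16.ci_sub_right, hRR, if_neg hk1, hv]
      push_cast; ring
    obtain ⟨hY0, hVY0⟩ := prop k₀ hV0
    obtain ⟨hY1, hVY1⟩ := prop k₁ hVone
    have hY01 := hcross k₀ k₁ (Ne.symm hk₁) hV0 hVone
    have hb3 := int_bessel3 hV.2 hY0.2 hY1.2 hVY0 hVY1 hY01 hv hc hd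
      (show classInner (R k) (R k) = ((2 : ℤ) : ℂ) by rw [hRR]; norm_num)
    have hv01 : v = 0 ∨ v = 1 := by
      have : 0 ≤ v ∧ v ≤ 1 := by constructor <;> nlinarith
      omega
    rcases hv01 with rfl | rfl
    · exfalso
      have hE : R k = Y k₀ + Y k₁ := by
        refine sub_eq_zero.mp ((H16.ci_self_eq_zero _).mp ?_)
        simp only [H16.ci_sub_left, H16.ci_sub_right, H16.ci_add_left, H16.ci_add_right, hRR,
          if_pos, hY0.2, hY1.2, hY01, ci_zero_comm hY01, hc, hd, H16.ci_symm (R k) (Y k₀),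
          H16.ci_symm (R k) (Y k₁)]
        simp
        norm_num
      have h := congrFun hE 1
      obtain ⟨n, hn⟩ := H16.gen_one_int hV.1
      simp only [hY, Pi.add_apply, Pi.sub_apply, hRdeg, hn] at h
      have h' : ((2 * n : ℤ) : ℂ) = ((-1 : ℤ) : ℂ) := by push_cast; linear_combination h
      have : 2 * n = -1 := by exact_mod_cast h'
      omega
    · rw [hv]; simp
  refine ⟨V, Y, hV, fun k => (prop k (hall k)).1, ci_zero_comm hV1, fun k => ?_,
    fun k => (prop k (hall k)).2, fun k l h => hcross k l h (hall k) (hall l), fun k => ?_⟩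
  · exact ci_zero_comm (by simp only [hY, H16.ci_sub_left, hR1, hV1, sub_self])
  · simp only [hY]; abel

end H61.DegP
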