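import Cfsg.Agent.H61.DegP.Induced
import Cfsg.Agent.H61.DegP.Star
import Cfsg.Agent.H12.Integral

/-!
S4724, module C: for `|E| = 2 m + 1` there are `m` real irreducible characters of degree `p + 1`.
-/

set_option autoImplicit false
set_option linter.unusedSectionVars false
set_option linter.style.haveILetI false

open Cfsg
open H13.GL23 (Signed1 ci_zero_comm)
open scoped ComplexConjugate

namespace H61.DegP

universe u

variable {G : Type u} [Group G] [Fintype G]

theorem signed_cases {S : G → ℂ} (hS : Signed1 S) :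
    ∃ (χ : IrrCharacter G) (s : ℤ), (s = 1 ∨ s = -1) ∧ S = (s : ℂ) • (χ : G → ℂ) := by
  rcases H16.norm_one hS.1 hS.2 with h | h
  · exact ⟨⟨S, h⟩, 1, Or.inl rfl, by simp⟩
  · exact ⟨⟨-S, h⟩, -1, Or.inr rfl, by simp⟩

theorem degree_one (χ : IrrCharacter G) {n : ℕ} :
    charDegree (χ : G → ℂ) = n ↔ (χ : G → ℂ) 1 = n := by
  constructor <;> intro h
  · rw [charDegree, H12.irr_apply_one, Complex.natCast_re, Nat.floor_natCast] at h
    rw [H12.irr_apply_one, h]
  · rw [charDegree, h, Complex.natCast_re, Nat.floor_natCast]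

/-- Bessel for a column of the character table, with equality. -/
theorem column {ι : Type*} [Fintype ι] (S : ι → G → ℂ) (hS : ∀ i, Signed1 (S i))
    (horth : ∀ i j, i ≠ j → classInner (S i) (S j) = 0) (x : G) :
    ∑ i, Complex.normSq (S i x) ≤ (Nat.card (Subgroup.centralizer ({x} : Set G)) : ℝ) ∧
    ((Nat.card (Subgroup.centralizer ({x} : Set G)) : ℝ) ≤ ∑ i, Complex.normSq (S i x) →
      ∀ χ : IrrCharacter G, (χ : G → ℂ) x = 0 ∨
        ∃ (i : ι) (s : ℤ), (s = 1 ∨ s = -1) ∧ (χ : G → ℂ) = (s : ℂ) • S i) := by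
  classical
  choose c σ hσ hc using fun j => signed_cases (hS j)
  have hσ2 : ∀ j, (σ j : ℂ) * σ j = 1 := fun j => by rcases hσ j with e | e <;> simp [e]
  have hinj : Function.Injective c := by
    intro i j hij
    by_contra hne
    have h0 := horth i j hne
    rw [hc i, hc j, H16.ci_smul_left, H16.ci_smul_right, hij, H16.ci_irr_self (c j).2] at h0
    rcases hσ i with e1 | e1 <;> rcases hσ j with e2 | e2 <;> rw [e1, e2] at h0 <;> norm_num at h0
  have hval : ∀ i, Complex.normSq (S i x) = Complex.normSq ((c i : G → ℂ) x) := fun i => by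
    rw [hc i, Pi.smul_apply, smul_eq_mul, Complex.normSq_mul]
    rcases hσ i with e | e <;> simp [e]
  have htot : ∑ χ : IrrCharacter G, Complex.normSq ((χ : G → ℂ) x) =
      (Nat.card (Subgroup.centralizer ({x} : Set G)) : ℝ) := by
    have h := H12.column_orthogonality x x
    rw [if_pos (IsConj.refl x)] at h
    refine Complex.ofReal_injective ?_
    push_cast
    rw [← h]
    exact Finset.sum_congr rfl fun χ _ => (Complex.mul_conj _).symm
  have hsum : ∑ i, Complex.normSq (S i x) =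
      ∑ χ ∈ Finset.univ.image c, Complex.normSq ((χ : G → ℂ) x) := by
    rw [Finset.sum_image (fun _ _ _ _ e => hinj e)]
    exact Finset.sum_congr rfl fun i _ => hval i
  rw [hsum, ← htot, ← Finset.sum_sdiff (Finset.subset_univ (Finset.univ.image c))]
  refine ⟨le_add_of_nonneg_left (Finset.sum_nonneg fun χ _ => Complex.normSq_nonneg _),
    fun hle χ => ?_⟩
  by_cases hχ : χ ∈ Finset.univ.image c
  · obtain ⟨i, -, rfl⟩ := Finset.mem_image.mp hχ
    exact Or.inr ⟨i, σ i, hσ i, by rw [hc i, smul_smul, hσ2, one_smul]⟩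
  · refine Or.inl (Complex.normSq_eq_zero.mp ?_)
    have h0 : ∑ χ ∈ Finset.univ \ Finset.univ.image c, Complex.normSq ((χ : G → ℂ) x) = 0 :=
      le_antisymm (by linarith) (Finset.sum_nonneg fun χ _ => Complex.normSq_nonneg _)
    exact (Finset.sum_eq_zero_iff_of_nonneg fun χ _ => Complex.normSq_nonneg _).mp h0 χ
      (Finset.mem_sdiff.mpr ⟨Finset.mem_univ _, hχ⟩)

variable {p : ℕ} [Fact p.Prime] {P : Sylow p G} {E : Subgroup G}
variable (h : H78.DegP.Hyp p P E) {m : ℕ} (hm : Nat.card E = 2 * m + 1)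
include h hm

/-- `1 + |1 + c|^2 + ∑ |psi + c|^2`. -/
theorem quad {z : ℂ} (hz : z ^ (2 * m + 1) = 1) (h1 : z ≠ 1) (h2 : z ^ 2 ≠ 1) (c : ℂ) :
    1 + Complex.normSq (1 + c) +
        ∑ k : Fin m, Complex.normSq (psi (2 * m + 1) ((k : ℕ) + 1) z + c) =
      (2 * m + 1 : ℝ) + (m + 1) * Complex.normSq c := by
  set a : Fin m → ℂ := fun k => psi (2 * m + 1) ((k : ℕ) + 1) z with ha
  have hconj : ∀ k, conj (a k) = a k := by
    intro k
    have hk := k.2
    have hi : ∀ j, j ≤ 2 * m + 1 → conj (z ^ j) = z ^ (2 * m + 1 - j) := fun j hj => by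
      rw [map_pow, H12.conj_eq_inv_of_pow_eq_one (by omega) hz, inv_pow]
      refine inv_eq_of_mul_eq_one_right ?_
      rw [← pow_add, Nat.add_sub_cancel' hj, hz]
    simp only [ha, psi, map_add]
    rw [hi _ (by omega), hi _ (by omega), Nat.sub_sub_self (by omega : (k : ℕ) + 1 ≤ 2 * m + 1),
      add_comm]
  have hs1 : ∑ k, a k = -1 := sum_psi hz h1
  have hs2 : ∑ k, a k * a k = 2 * m - 1 := by
    rw [Finset.sum_congr rfl (g := fun k : Fin m => psi (2 * m + 1) ((k : ℕ) + 1) (z ^ 2) + 2)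
      fun k _ => psi_mul_self hz (by omega), Finset.sum_add_distrib,
      sum_psi (by rw [← pow_mul, mul_comm, pow_mul, hz, one_pow]) h2]
    simp
    ring
  refine Complex.ofReal_injective ?_
  push_cast
  simp only [Complex.normSq_eq_conj_mul_self, map_add, map_one]
  simp only [show ∀ k : Fin m, psi (2 * m + 1) ((k : ℕ) + 1) z = a k from fun _ => rfl, hconj]
  simp only [add_mul, mul_add, Finset.sum_add_distrib, ← Finset.sum_mul, ← Finset.mul_sum, hs1, hs2,
    Finset.sum_const, Finset.card_univ, Fintype.card_fin, nsmul_eq_mul]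
  ring

/-- The constituents, with `V` of degree `p`. -/
theorem exists_constituents : ∃ (V : G → ℂ) (Y : Fin m → G → ℂ),
    IsIrrCharacter G V ∧ V 1 = p ∧ (∀ k, Signed1 (Y k)) ∧
    (∀ k l, k ≠ l → classInner (Y k) (Y l) = 0) ∧
    ∀ k : Fin m, Phi h hm ((k : ℕ) + 1) = (fun _ => 1) + V + Y k := by
  classical
  haveI : Fintype E := Fintype.ofFinite _
  have hp := (Fact.out : p.Prime)
  have hm0 : 0 < m := by have := h.two_le; omega
  have h1 := signed_trivial (L := G)
  set R : Fin m → G → ℂ := fun k => Phi h hm ((k : ℕ) + 1) - fun _ => 1 with hR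
  have hRg : ∀ k, IsGeneralizedCharacter G (R k) := fun k => H16.gen_sub (Phi_gen h hm _) h1.1
  have htr : ∀ k : Fin m, classInner (Phi h hm ((k : ℕ) + 1)) (fun _ => 1) = 1 := fun k =>
    Phi_trivial h hm (by omega) (by omega)
  have hR1 : ∀ k, classInner (R k) (fun _ => 1) = 0 := fun k => by
    simp only [hR, H16.ci_sub_left, htr, h1.2, sub_self]
  have hRR : ∀ k l, classInner (R k) (R l) = if k = l then 2 else 1 := fun k l => by
    simp only [hR, H16.ci_sub_left, H16.ci_sub_right, Phi_gram h hm k.2 l.2, htr, h1.2,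
      H16.ci_symm (Phi h hm ((l : ℕ) + 1)) (fun _ => 1), map_one, Fin.val_inj]
    split_ifs <;> norm_num
  have hRdeg : ∀ k, R k 1 = -1 := fun k => by simp [hR, Phi_one]
  obtain ⟨V, Y, hV, hY, h1V, h1Y, hVY, hYY, heq⟩ := star (⟨0, hm0⟩ : Fin m) R hRg hR1 hRR hRdeg
  -- values on `E`
  let S : Option (Option (Fin m)) → G → ℂ := fun i => i.elim (fun _ => 1) (fun j => j.elim V Y)
  have hS : ∀ i, Signed1 (S i) := by rintro (_ | _ | k); exacts [h1, hV, hY k]
  have horth : ∀ i j, i ≠ j → classInner (S i) (S j) = 0 := by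
    rintro (_ | _ | k) (_ | _ | l) hne
    · exact absurd rfl hne
    · exact h1V
    · exact h1Y l
    · exact ci_zero_comm h1V
    · exact absurd rfl hne
    · exact hVY l
    · exact ci_zero_comm (h1Y k)
    · exact ci_zero_comm (hVY k)
    · exact hYY k l (fun e => hne (by rw [e]))
  have hval : ∀ x : E, x ≠ 1 → V (x : G) = 1 ∧
      (∀ k : Fin m, Y k (x : G) = -psi (2 * m + 1) ((k : ℕ) + 1) (zv h hm x)) ∧
      ∀ χ : IrrCharacter G, (χ : G → ℂ) (x : G) = 0 ∨
        ∃ (i : _) (s : ℤ), (s = 1 ∨ s = -1) ∧ (χ : G → ℂ) = (s : ℂ) • S i := by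
    intro x hx
    have hYx : ∀ k : Fin m,
        Y k (x : G) = -(psi (2 * m + 1) ((k : ℕ) + 1) (zv h hm x) + (V (x : G) - 1)) := fun k => by
      have h2 := congrFun (heq k) (x : G)
      simp only [hR, Pi.sub_apply, Pi.add_apply, Phi_special h hm (by omega : (k : ℕ) + 1 ≤ _) hx] at h2
      linear_combination -h2
    have hsum : ∑ i, Complex.normSq (S i (x : G)) =
        (2 * m + 1 : ℝ) + (m + 1) * Complex.normSq (V (x : G) - 1) := by
      rw [Fintype.sum_option, Fintype.sum_option,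
        ← quad h hm (zv_pow h hm x) (zv_ne_one h hm hx) (zv_sq_ne_one h hm hx) (V (x : G) - 1)]
      simp only [S, Option.elim_none, Option.elim_some, map_one, add_sub_cancel, hYx,
        Complex.normSq_neg]
      ring
    have hcard : (Nat.card (Subgroup.centralizer ({(x : G)} : Set G)) : ℝ) = 2 * m + 1 := by
      rw [cent_eq h (odd_card h hm) x.2 (fun e => hx (Subtype.ext e)), hm]
      push_cast
      ring
    obtain ⟨hle, hall⟩ := column S hS horth (x : G)
    rw [hsum, hcard] at hle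
    have hc0 : Complex.normSq (V (x : G) - 1) = 0 := by
      nlinarith [Complex.normSq_nonneg (V (x : G) - 1), (Nat.cast_nonneg m : (0 : ℝ) ≤ m)]
    have hV1x : V (x : G) = 1 := sub_eq_zero.mp (Complex.normSq_eq_zero.mp hc0)
    refine ⟨hV1x, fun k => by rw [hYx k, hV1x, sub_self, add_zero], hall ?_⟩
    rw [hsum, hcard, hc0, mul_zero, add_zero]
  -- the character of degree `p`
  obtain ⟨χ, hχp, -⟩ := h.unique_deg
  rw [degree_one] at hχp
  have hres : ∀ F : E → ℂ, (∀ x : E, F x = (χ : G → ℂ) (x : G)) →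
      ∃ n : ℕ, ∑ x, F x = ((2 * m + 1 : ℕ) : ℂ) * n := by
    intro F hF
    obtain ⟨n, hn⟩ := H12.IsCharacter.classInner_nat
      (H12.IsCharacter.res (H12.isCharacter_irr χ) E) (H12.isCharacter_one (G := E))
    refine ⟨n, ?_⟩
    rw [← hn, H12.classInner_def, hm, ← mul_assoc,
      mul_inv_cancel₀ (Nat.cast_ne_zero.mpr (by omega)), one_mul]
    exact Finset.sum_congr rfl fun x _ => by simp [hF]
  have hsplit : ∀ F : E → ℂ, ∑ x, F x = F 1 + ∑ x ∈ Finset.univ.erase 1, F x := fun F =>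
    (Finset.add_sum_erase _ _ (Finset.mem_univ 1)).symm
  have hpe : ∀ t : ℤ, (∃ n : ℕ, ((p : ℤ) + t : ℂ) = ((2 * m + 1 : ℕ) : ℂ) * n) →
      ((2 * m + 1 : ℕ) : ℤ) ∣ 1 + t := by
    rintro t ⟨n, hn⟩
    have h2 : ((p : ℤ) + t) = ((2 * m + 1 : ℕ) : ℤ) * n := by exact_mod_cast hn
    obtain ⟨a, ha⟩ := h.dvd_pred
    rw [hm] at ha
    have : (p : ℤ) - 1 = ((2 * m + 1 : ℕ) : ℤ) * a := by
      rw [← Nat.cast_mul, ← ha, Nat.cast_sub hp.one_le, Nat.cast_one]
    exact ⟨(n : ℤ) - a, by linear_combination h2 - this⟩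
  obtain ⟨i, s, hs, hχS⟩ : ∃ (i : _) (s : ℤ), (s = 1 ∨ s = -1) ∧
      (χ : G → ℂ) = (s : ℂ) • S i := by
    by_contra hne
    obtain ⟨n, hn⟩ := hres (fun x => (χ : G → ℂ) (x : G)) (fun _ => rfl)
    rw [hsplit, Finset.sum_eq_zero fun x hx =>
      ((hval x (Finset.ne_of_mem_erase hx)).2.2 χ).resolve_right hne, add_zero,
      Subgroup.coe_one, hχp] at hn
    have := hpe 0 ⟨n, by simpa using hn⟩
    have h2 := Int.le_of_dvd (by norm_num) this
    push_cast at h2
    omega
  have hs2 : (s : ℂ) * s = 1 := by rcases hs with e | e <;> simp [e]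
  have hSdeg : S i = (s : ℂ) • (χ : G → ℂ) := by rw [hχS, smul_smul, hs2, one_smul]
  rcases i with _ | _ | j
  · exfalso
    have h2 := congrFun hχS 1
    simp only [S, Option.elim_none, Pi.smul_apply, hχp, smul_eq_mul, mul_one] at h2
    have h3 : (p : ℤ) = s := by exact_mod_cast h2
    have := hp.two_le
    omega
  · -- `χ = ± V`
    have hχV : (χ : G → ℂ) = (s : ℂ) • V := hχS
    obtain ⟨n, hn⟩ := hres (fun x => (χ : G → ℂ) (x : G)) (fun _ => rfl)
    rw [hsplit, Finset.sum_congr rfl (g := fun _ => (s : ℂ)) fun x hx => by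
      rw [hχV, Pi.smul_apply, (hval x (Finset.ne_of_mem_erase hx)).1, smul_eq_mul, mul_one],
      Finset.sum_const, Finset.card_erase_of_mem (Finset.mem_univ _), Finset.card_univ,
      ← Nat.card_eq_fintype_card, hm, Subgroup.coe_one, hχp, nsmul_eq_mul] at hn
    have h2 := hpe (2 * m * s) ⟨n, by rw [← hn]; simp⟩
    have hs1 : s = 1 := by
      rcases hs with e | e
      · exact e
      · exfalso
        subst e
        obtain ⟨q, hq⟩ := h2
        push_cast at hq
        have h3 : (2 * (m : ℤ) + 1) ∣ 2 := ⟨q + 1, by linarith⟩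
        have := Int.le_of_dvd (by norm_num) h3
        omega
    subst hs1
    rw [Int.cast_one, one_smul] at hχV
    refine ⟨V, Y, hχV ▸ χ.2, hχV ▸ hχp, hY, hYY, fun k => ?_⟩
    have h3 := heq k
    simp only [hR] at h3
    rw [add_assoc, ← h3]
    abel
  · -- `χ = ± Y j`, so `m = 1`
    have hχY : (χ : G → ℂ) = (s : ℂ) • Y j := hχS
    obtain ⟨n, hn⟩ := hres (fun x => (χ : G → ℂ) (x : G)) (fun _ => rfl)
    have hsum : ∑ x ∈ (Finset.univ.erase (1 : E)),
        -psi (2 * m + 1) ((j : ℕ) + 1) (zv h hm x) = 2 := by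
      have h2 := hsplit (fun x => -psi (2 * m + 1) ((j : ℕ) + 1) (zv h hm x))
      have hj := j.2
      have d : ∀ i, 0 < i → i < 2 * m + 1 → ¬ 2 * m + 1 ∣ i := fun i h1 h2 hd => by
        have := Nat.le_of_dvd h1 hd; omega
      simp only [psi, zv_one, one_pow, Finset.sum_neg_distrib, Finset.sum_add_distrib, sum_zv_pow,
        if_neg (d ((j : ℕ) + 1) (by omega) (by omega)),
        if_neg (d (2 * m + 1 - ((j : ℕ) + 1)) (by omega) (by omega))] at h2 ⊢
      linear_combination -h2
    rw [hsplit, Finset.sum_congr rfl (g := fun x =>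
        (s : ℂ) * -psi (2 * m + 1) ((j : ℕ) + 1) (zv h hm x)) fun x hx => by
      rw [hχY, Pi.smul_apply, (hval x (Finset.ne_of_mem_erase hx)).2.1, smul_eq_mul],
      ← Finset.mul_sum, hsum, Subgroup.coe_one, hχp] at hn
    obtain ⟨rfl, hm1⟩ : s = 1 ∧ m = 1 := by
      have h2 := hpe (2 * s) ⟨n, by rw [← hn]; push_cast; ring⟩
      rcases hs with rfl | rfl
      · refine ⟨rfl, ?_⟩
        have := Int.le_of_dvd (by norm_num) h2
        push_cast at this
        omega
      · exfalso
        have := Int.le_of_dvd (b := 1) (by norm_num) (by simpa using h2)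
        omega
    rw [Int.cast_one, one_smul] at hχY
    subst hm1
    refine ⟨Y j, fun _ => V, hχY ▸ χ.2, hχY ▸ hχp, fun _ => hV,
      fun k l hkl => absurd (Subsingleton.elim k l) hkl, fun k => ?_⟩
    obtain rfl := Subsingleton.elim j k
    have h3 := heq j
    simp only [hR] at h3
    rw [add_assoc, add_comm (Y j), ← h3]
    abel

theorem family : ∃ β : Fin m → IrrCharacter G, Function.Injective β ∧
    ∀ j, charDegree (β j : G → ℂ) = p + 1 ∧ ∀ g, conj ((β j : G → ℂ) g) = (β j : G → ℂ) g := by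
  classical
  obtain ⟨V, Y, hV, hV1, hY, hYY, heq⟩ := exists_constituents h hm
  have hYdeg : ∀ k, Y k 1 = -((p + 1 : ℕ) : ℂ) := fun k => by
    have h2 := congrFun (heq k) 1
    rw [Phi_one, Pi.add_apply, Pi.add_apply, hV1] at h2
    push_cast
    linear_combination -h2
  have hirr : ∀ k, IsIrrCharacter G (-Y k) := fun k => by
    rcases H16.norm_one (hY k).1 (hY k).2 with hi | hi
    · exfalso
      have h2 := H12.irr_apply_one (⟨Y k, hi⟩ : IrrCharacter G)
      change Y k 1 = ((H12.degree (Y k) : ℕ) : ℂ) at h2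
      rw [hYdeg k] at h2
      have h3 : -((p + 1 : ℕ) : ℤ) = ((H12.degree (Y k) : ℕ) : ℤ) := by exact_mod_cast h2
      omega
    · exact hi
  have hVreal : ∀ g, conj (V g) = V g := by
    obtain ⟨χ, -, huniq⟩ := h.unique_deg
    have h1 := huniq ⟨V, hV⟩ ((degree_one _).mpr hV1)
    have h2 := huniq (H12.conjIrr ⟨V, hV⟩)
      ((degree_one _).mpr (by rw [H12.conjIrr_apply]; simp [hV1]))
    exact fun g => congrFun (congrArg Subtype.val (h2.trans h1.symm)) g
  refine ⟨fun k => ⟨-Y k, hirr k⟩, fun k l hkl => ?_, fun k => ⟨?_, fun g => ?_⟩⟩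
  · by_contra hne
    have h2 : -Y k = -Y l := congrArg Subtype.val hkl
    rw [neg_inj] at h2
    have h3 := hYY k l hne
    rw [h2, (hY l).2] at h3
    exact one_ne_zero h3
  · rw [degree_one]
    simp [hYdeg k]
  · have h2 := congrFun (heq k) g
    simp only [Pi.add_apply] at h2
    have e : Y k g = Phi h hm ((k : ℕ) + 1) g - 1 - V g := by linear_combination -h2
    simp [e, Phi_real, hVreal]

omit h hm

/-- Module C of S4724. -/
theorem familyStmt : H78.DegP.FamilyStmt.{u} := by
  intro G _ _ p _ P E h m hm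
  haveI := Fintype.ofFinite G
  exact family h hm

end H61.DegP
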