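import Cfsg.Agent.H78.DegP.Defs

/-!
S4724, odd `|E|`: the normaliser of `E` inverts `E`, and `E` is the centraliser of each of its
nontrivial elements.
-/

set_option autoImplicit false
set_option linter.unusedSectionVars false

open Cfsg
open Subgroup (centralizer normalizer zpowers)

namespace H61.DegP

universe u

variable {G : Type u} [Group G] [Finite G] {p : ℕ} [Fact p.Prime] {P : Sylow p G} {E : Subgroup G}

local notation "NE" => normalizer (E : Set G)

theorem nmem {g x : G} (hg : g ∈ NE) (hx : x ∈ E) : g * x * g⁻¹ ∈ E :=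
  (Subgroup.mem_normalizer_iff.mp hg x).mp hx

variable (h : H78.DegP.Hyp p P E)
include h

theorem comm {a b : G} (ha : a ∈ E) (hb : b ∈ E) : a * b = b * a := by
  haveI := h.cyclic
  letI : CommGroup E := IsCyclic.commGroup
  exact congrArg Subtype.val (mul_comm (⟨a, ha⟩ : E) ⟨b, hb⟩)

theorem stay {x : G} (hx : x ∈ E) (hx1 : x ≠ 1) {g : G} (hg : g * x * g⁻¹ ∈ E) : g ∈ NE := by
  by_contra hn
  have h1 : g * x * g⁻¹ ∈ E ⊓ E.map (MulAut.conj g).toMonoidHom :=
    ⟨hg, x, hx, by simp [MulAut.conj_apply]⟩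
  rw [h.ti g hn, Subgroup.mem_bot] at h1
  exact hx1 (conj_eq_one_iff.mp h1)

theorem cent_le {x : G} (hx : x ∈ E) (hx1 : x ≠ 1) : centralizer {x} ≤ NE := fun g hg => by
  refine stay h hx hx1 ?_
  rw [Subgroup.mem_centralizer_singleton_iff.mp hg, mul_inv_cancel_right]
  exact hx

theorem index_two : (E.subgroupOf NE).index = 2 := by
  have h1 := (E.subgroupOf NE).card_mul_index
  rw [Nat.card_congr (Subgroup.subgroupOfEquivOfLe Subgroup.le_normalizer).toEquiv,
    h.card_normalizer, mul_comm 2] at h1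
  exact Nat.eq_of_mul_eq_mul_left Nat.card_pos h1

theorem mul_mem_out {g k : G} (hg : g ∈ NE) (hgE : g ∉ E) (hk : k ∈ NE) (hkE : k ∉ E) :
    g * k ∈ E :=
  Subgroup.mem_subgroupOf.mp ((Subgroup.mul_mem_iff_of_index_two (index_two h)
    (a := ⟨g, hg⟩) (b := ⟨k, hk⟩)).mpr (by simp [Subgroup.mem_subgroupOf, hgE, hkE]))

theorem sq_mem {g : G} (hg : g ∈ NE) : g * g ∈ E := by
  by_cases hgE : g ∈ E
  · exact mul_mem hgE hgE
  · exact mul_mem_out h hg hgE hg hgE

theorem mem_of_odd {g : G} (hg : g ∈ NE) (ho : Odd (orderOf g)) : g ∈ E := by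
  obtain ⟨k, hk⟩ := ho
  have : g = ((g * g) ^ (k + 1)) := by
    rw [← pow_two, ← pow_mul, show 2 * (k + 1) = (2 * k + 1) + 1 by ring, pow_succ, ← hk,
      pow_orderOf_eq_one, one_mul]
  rw [this]
  exact pow_mem (sq_mem h hg) _

theorem exists_out : ∃ w ∈ NE, w ∉ E := by
  by_contra hc
  push Not at hc
  have := Subgroup.card_le_of_le (H := NE) (K := E) hc
  rw [h.card_normalizer] at this
  have := Nat.card_pos (α := E)
  omega

/-- In a cyclic group the elements of order dividing `r` are the powers of one of order `r`. -/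
theorem mem_zpowers_of_pow {r : ℕ} {x z : G} (hx : x ∈ E) (hxo : orderOf x = r) (hz : z ∈ E)
    (hzr : z ^ r = 1) : z ∈ zpowers x := by
  classical
  haveI := h.cyclic
  haveI : Fintype E := Fintype.ofFinite _
  have hr : 0 < r := hxo ▸ orderOf_pos x
  set T : Finset E := Finset.univ.filter fun a => a ^ r = 1
  set U : Finset E := (Finset.range r).image fun k => (⟨x, hx⟩ : E) ^ k
  have hU : U.card = r := by
    rw [Finset.card_image_of_injOn, Finset.card_range]
    intro i hi j hj hij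
    exact pow_injOn_Iio_orderOf (by simpa [Subgroup.orderOf_mk, hxo] using hi)
      (by simpa [Subgroup.orderOf_mk, hxo] using hj) hij
  have hsub : U ⊆ T := fun a ha => by
    obtain ⟨k, -, rfl⟩ := Finset.mem_image.mp ha
    refine Finset.mem_filter.mpr ⟨Finset.mem_univ _, Subtype.ext ?_⟩
    show (x ^ k) ^ r = 1
    rw [← pow_mul, mul_comm k r, pow_mul, ← hxo, pow_orderOf_eq_one, one_pow]
  have hz' : (⟨z, hz⟩ : E) ∈ U := by
    rw [Finset.eq_of_subset_of_card_le hsub (hU ▸ IsCyclic.card_pow_eq_one_le hr)]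
    exact Finset.mem_filter.mpr ⟨Finset.mem_univ _, Subtype.ext hzr⟩
  obtain ⟨k, -, hk⟩ := Finset.mem_image.mp hz'
  exact ⟨k, by simpa using congrArg Subtype.val hk⟩

/-- An element outside `E` commutes with no element of prime order of `E`. -/
theorem not_comm_prime (he : Odd (Nat.card E)) {w : G} (hw : w ∈ NE) (hwE : w ∉ E) {x : G}
    (hx : x ∈ E) {r : ℕ} [Fact r.Prime] (hxo : orderOf x = r) : w * x * w⁻¹ ≠ x := by
  classical
  intro hwx
  have hr := (Fact.out : r.Prime)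
  have hr2 : Odd r := he.of_dvd_nat (hxo ▸ Subgroup.orderOf_dvd_natCard E hx)
  have hx1 : x ≠ 1 := fun h0 => hr.ne_one (by rw [← hxo, h0, orderOf_one])
  obtain ⟨S, hS⟩ : ∃ S : Sylow r G, zpowers x ≤ S :=
    (IsPGroup.of_card (n := 1) (by rw [Nat.card_zpowers, hxo, pow_one])).exists_le_sylow
  have hxS : x ∈ (S : Subgroup G) := hS (Subgroup.mem_zpowers x)
  haveI : Nontrivial (S : Subgroup G) :=
    ⟨⟨⟨x, hxS⟩, 1, fun h0 => hx1 (congrArg Subtype.val h0)⟩⟩
  haveI := S.2.center_nontrivial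
  obtain ⟨n, hn0, hn⟩ := IsPGroup.nontrivial_iff_card (S.2.to_subgroup (Subgroup.center _)) |>.mp
    inferInstance
  obtain ⟨z, hz⟩ := exists_prime_orderOf_dvd_card' (G := Subgroup.center (S : Subgroup G)) r
    (by rw [hn]; exact dvd_pow_self r hn0.ne')
  set z' : G := ((z : (S : Subgroup G)) : G)
  have hzo : orderOf z' = r := by
    rw [← hz, Subgroup.orderOf_coe, Subgroup.orderOf_coe]
  have hzS : ∀ y ∈ (S : Subgroup G), y * z' = z' * y := fun y hy =>
    congrArg Subtype.val (Subgroup.mem_center_iff.mp z.2 ⟨y, hy⟩)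
  have hzx : x * z' = z' * x := hzS x hxS
  have hzE : z' ∈ E := mem_of_odd h (cent_le h hx hx1
    (Subgroup.mem_centralizer_singleton_iff.mpr hzx.symm)) (hzo.symm ▸ hr2)
  obtain ⟨k, hk⟩ := mem_zpowers_of_pow h hzE hzo hx (hxo ▸ pow_orderOf_eq_one x)
  have hSE : (S : Subgroup G) ≤ E := fun y hy => by
    refine mem_of_odd h (cent_le h hx hx1 ?_) ?_
    · rw [Subgroup.mem_centralizer_singleton_iff, ← hk]
      exact ((show Commute y z' from hzS y hy).zpow_right k).eq
    · obtain ⟨j, hj⟩ := IsPGroup.iff_orderOf.mp S.2 ⟨y, hy⟩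
      rw [Subgroup.orderOf_mk] at hj
      rw [hj]
      exact hr2.pow
  have hwS : ∀ y ∈ (S : Subgroup G), w * y * w⁻¹ = y := by
    intro y hy
    have hyE := hSE hy
    have hy' : w * y * w⁻¹ ∈ E := nmem hw hyE
    set v : G := w * y * w⁻¹ * y⁻¹ with hv
    have hvE : v ∈ E := mul_mem hy' (inv_mem hyE)
    have hinv : w * v * w⁻¹ = v⁻¹ := by
      have h2 : w * w * y = y * (w * w) := comm h (sq_mem h hw) hyE
      calc w * v * w⁻¹ = (w * w * y) * (w * w)⁻¹ * (w * y⁻¹ * w⁻¹) := by rw [hv]; group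
        _ = y * (w * y⁻¹ * w⁻¹) := by rw [h2]; group
        _ = v⁻¹ := by rw [hv]; group
    by_contra hne
    have hv1 : v ≠ 1 := fun h0 => hne (mul_inv_eq_one.mp h0)
    obtain ⟨j, hj⟩ := IsPGroup.iff_orderOf.mp S.2 ⟨y, hy⟩
    rw [Subgroup.orderOf_mk] at hj
    have hvd : orderOf v ∣ r ^ j := by
      refine orderOf_dvd_of_pow_eq_one ?_
      rw [hv, (show Commute (w * y * w⁻¹) y⁻¹ from comm h hy' (inv_mem hyE)).mul_pow, conj_pow,
        inv_pow, ← hj, pow_orderOf_eq_one]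
      simp
    obtain ⟨i, -, hi⟩ := (Nat.dvd_prime_pow hr).mp hvd
    have hi0 : i ≠ 0 := fun h0 => hv1 (orderOf_eq_one_iff.mp (by rw [hi, h0, pow_zero]))
    set v' : G := v ^ r ^ (i - 1)
    have hv'r : v' ^ r = 1 := by
      rw [← pow_mul, ← pow_succ, show i - 1 + 1 = i by omega, ← hi, pow_orderOf_eq_one]
    obtain ⟨l, hl⟩ := mem_zpowers_of_pow h hx hxo (pow_mem hvE _) hv'r
    have hl' : x ^ l = v' := hl
    have hfix : w * v' * w⁻¹ = v' := by rw [← hl', ← conj_zpow, hwx]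
    have hneg : w * v' * w⁻¹ = v'⁻¹ := by rw [← conj_pow, hinv, inv_pow]
    have hv'2 : v' ^ 2 = 1 := by
      rw [pow_two, ← eq_inv_iff_mul_eq_one]
      exact hfix.symm.trans hneg
    have hv'1 : v' = 1 := by
      obtain ⟨t, ht⟩ := hr2
      rw [ht, pow_succ, pow_mul, hv'2, one_pow, one_mul] at hv'r
      exact hv'r
    have : r ^ i ∣ r ^ (i - 1) := hi ▸ orderOf_dvd_of_pow_eq_one hv'1
    have := Nat.pow_dvd_pow_iff_le_right hr.one_lt |>.mp this
    omega
  have hNC : normalizer ((S : Subgroup G) : Set G) ≤ centralizer ((S : Subgroup G) : Set G) := by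
    intro g hg y hy
    have hgx : g * x * g⁻¹ ∈ E := hSE ((Subgroup.mem_normalizer_iff.mp hg x).mp hxS)
    have hgN := stay h hx hx1 hgx
    by_cases hgE : g ∈ E
    · exact comm h (hSE hy) hgE
    · have he' : w * g ∈ E := mul_mem_out h hw hwE hgN hgE
      have hwy : w * y = y * w := mul_inv_eq_iff_eq_mul.mp (hwS y hy)
      have h3 : w * g * y = y * (w * g) := comm h he' (hSE hy)
      apply mul_left_cancel (a := w)
      rw [← mul_assoc, hwy, mul_assoc, ← h3, ← mul_assoc]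
  haveI := h.simple
  have hK := MonoidHom.ker_transferSylow_isComplement' S hNC
  rcases (MonoidHom.transferSylow S hNC).normal_ker.eq_bot_or_eq_top with hb | ht
  · rw [hb, Subgroup.isComplement'_bot_left] at hK
    obtain ⟨a, b, hab⟩ := h.nonabelian
    exact hab (comm h (hSE (hK ▸ Subgroup.mem_top a)) (hSE (hK ▸ Subgroup.mem_top b)))
  · rw [ht, Subgroup.isComplement'_top_left] at hK
    exact hx1 (Subgroup.mem_bot.mp (hK ▸ hxS))

theorem not_comm (he : Odd (Nat.card E)) {w : G} (hw : w ∈ NE) (hwE : w ∉ E) {x : G} (hx : x ∈ E)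
    (hwx : w * x * w⁻¹ = x) : x = 1 := by
  by_contra hx1
  obtain ⟨r, hr, k, hk⟩ := Nat.exists_prime_and_dvd (n := orderOf x)
    (fun h0 => hx1 (orderOf_eq_one_iff.mp h0))
  haveI := Fact.mk hr
  have ho : orderOf (x ^ k) = r := by
    have hk0 : k ≠ 0 := fun h0 => (orderOf_pos x).ne' (by rw [hk, h0, mul_zero])
    rw [orderOf_pow' _ hk0, hk, Nat.gcd_mul_left_left, Nat.mul_div_cancel _ (Nat.pos_of_ne_zero hk0)]
  exact not_comm_prime h he hw hwE (pow_mem hx k) ho (by rw [← conj_pow, hwx])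

theorem inverts (he : Odd (Nat.card E)) {w : G} (hw : w ∈ NE) (hwE : w ∉ E) {x : G} (hx : x ∈ E) :
    w * x * w⁻¹ = x⁻¹ := by
  have hx' := nmem hw hx
  refine eq_inv_of_mul_eq_one_left (not_comm h he hw hwE (mul_mem hx' hx) ?_)
  have h2 : w * w * x = x * (w * w) := comm h (sq_mem h hw) hx
  calc w * (w * x * w⁻¹ * x) * w⁻¹ = (w * w * x) * (w * w)⁻¹ * (w * x * w⁻¹) := by group
    _ = x * (w * x * w⁻¹) := by rw [h2]; group
    _ = w * x * w⁻¹ * x := comm h hx hx'

theorem cent_eq (he : Odd (Nat.card E)) {x : G} (hx : x ∈ E) (hx1 : x ≠ 1) :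
    centralizer {x} = E := by
  refine le_antisymm (fun g hg => ?_) (fun g hg =>
    Subgroup.mem_centralizer_singleton_iff.mpr (comm h hg hx))
  have hgN := cent_le h hx hx1 hg
  by_contra hgE
  refine hx1 (not_comm h he hgN hgE hx ?_)
  rw [Subgroup.mem_centralizer_singleton_iff.mp hg, mul_inv_cancel_right]

end H61.DegP
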