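import Cfsg.Agent.H61.DegP.Group
import Cfsg.Agent.H13.GL23.Decomp
import Cfsg.Agent.H12.Linear

/-!
S4724, odd `|E|`: the functions induced from `1 - λ` and their inner products.
-/

set_option autoImplicit false
set_option linter.unusedSectionVars false
set_option linter.style.haveILetI false

open Cfsg
open Subgroup (normalizer)
open scoped ComplexConjugate

namespace H61.DegP

universe u

/-- `z ^ n + z ^ (- n)` for `z ^ e = 1`. -/
noncomputable def psi (e n : ℕ) (z : ℂ) : ℂ := z ^ n + z ^ (e - n)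

theorem sum_psi {m : ℕ} {z : ℂ} (hz : z ^ (2 * m + 1) = 1) (h1 : z ≠ 1) :
    ∑ k : Fin m, psi (2 * m + 1) ((k : ℕ) + 1) z = -1 := by
  have h0 : ∑ i ∈ Finset.range (m + m + 1), z ^ i = 0 := by
    rw [geom_sum_eq h1, show m + m + 1 = 2 * m + 1 by ring, hz, sub_self, zero_div]
  rw [Finset.sum_range_succ', Finset.sum_range_add, pow_zero] at h0
  rw [Fin.sum_univ_eq_sum_range (fun k => psi (2 * m + 1) (k + 1) z) m]
  simp only [psi, Finset.sum_add_distrib]
  have h2 : ∑ k ∈ Finset.range m, z ^ (2 * m + 1 - (k + 1)) =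
      ∑ k ∈ Finset.range m, z ^ (m + k + 1) := by
    rw [← Finset.sum_range_reflect (fun k => z ^ (m + k + 1))]
    refine Finset.sum_congr rfl fun k hk => ?_
    rw [Finset.mem_range] at hk
    congr 1
    omega
  rw [h2]
  linear_combination h0

theorem psi_mul_self {e n : ℕ} {z : ℂ} (hz : z ^ e = 1) (hn : n ≤ e) :
    psi e n z * psi e n z = psi e n (z ^ 2) + 2 := by
  have : z ^ n * z ^ (e - n) = 1 := by rw [← pow_add, Nat.add_sub_cancel' hn, hz]
  simp only [psi]
  rw [← pow_mul, ← pow_mul, mul_comm 2 n, mul_comm 2 (e - n), pow_mul, pow_mul]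
  linear_combination 2 * this

variable {G : Type u} [Group G] [Finite G] {p : ℕ} [Fact p.Prime] {P : Sylow p G} {E : Subgroup G}
variable (h : H78.DegP.Hyp p P E) {m : ℕ} (hm : Nat.card E = 2 * m + 1)
include h hm

theorem odd_card : Odd (Nat.card E) := ⟨m, hm⟩

theorem exists_lam : ∃ l : E →* ℂˣ, Function.Injective l := by
  haveI := h.cyclic
  haveI : NeZero (2 * m + 1) := ⟨by omega⟩
  let f : E ≃* rootsOfUnity (2 * m + 1) ℂ :=
    mulEquivOfCyclicCardEq (by rw [Complex.card_rootsOfUnity, hm])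
  exact ⟨(rootsOfUnity (2 * m + 1) ℂ).subtype.comp f.toMonoidHom,
    Subtype.val_injective.comp f.injective⟩

/-- A faithful linear character of `E`. -/
noncomputable def lam : E →* ℂˣ := (exists_lam h hm).choose

/-- Its values. -/
noncomputable def zv (x : E) : ℂ := (lam h hm x : ℂ)

theorem zv_pow (x : E) : zv h hm x ^ (2 * m + 1) = 1 := by
  rw [zv, ← Units.val_pow_eq_pow_val, ← map_pow, ← hm, pow_card_eq_one', map_one, Units.val_one]

theorem zv_ne_one {x : E} (hx : x ≠ 1) : zv h hm x ≠ 1 := fun h0 =>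
  hx ((exists_lam h hm).choose_spec (Units.ext (by simpa [zv, lam] using h0)))

theorem zv_sq_ne_one {x : E} (hx : x ≠ 1) : zv h hm x ^ 2 ≠ 1 := fun h0 =>
  zv_ne_one h hm hx (by simpa [pow_succ, pow_mul, h0] using zv_pow h hm x)

theorem zv_one : zv h hm (1 : E) = 1 := by simp [zv]

theorem conj_zv (x : E) : conj (zv h hm x) = zv h hm x⁻¹ :=
  (H12.IsCharacter.inv (H12.isCharacter_monoidHom (lam h hm)) x).symm

theorem zv_inv_pow (x : E) {n : ℕ} (hn : n ≤ 2 * m + 1) :
    zv h hm x⁻¹ ^ n = zv h hm x ^ (2 * m + 1 - n) := by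
  rw [zv, map_inv, Units.val_inv_eq_inv_val, inv_pow]
  refine inv_eq_of_mul_eq_one_right ?_
  show zv h hm x ^ n * zv h hm x ^ (2 * m + 1 - n) = 1
  rw [← pow_add, Nat.add_sub_cancel' hn]
  exact zv_pow h hm x

theorem sum_zv_pow [Fintype E] (j : ℕ) :
    ∑ x : E, zv h hm x ^ j = if 2 * m + 1 ∣ j then ((2 * m + 1 : ℕ) : ℂ) else 0 := by
  split_ifs with hd
  · obtain ⟨i, rfl⟩ := hd
    simp [pow_mul, zv_pow, ← Nat.card_eq_fintype_card, hm]
  · haveI := h.cyclic
    obtain ⟨g, hg⟩ := IsCyclic.exists_ofOrder_eq_natCard (α := E)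
    have hne : zv h hm g ^ j ≠ 1 := fun h0 => hd (by
      rw [← hm, ← hg]
      refine orderOf_dvd_of_pow_eq_one ((exists_lam h hm).choose_spec (Units.ext ?_))
      simpa [zv, lam] using h0)
    have : zv h hm g ^ j * ∑ x : E, zv h hm x ^ j = ∑ x : E, zv h hm x ^ j := by
      rw [Finset.mul_sum]
      refine Fintype.sum_equiv (Equiv.mulLeft g) _ _ fun x => ?_
      simp [zv, mul_pow]
    refine (mul_right_eq_self₀.mp ((mul_comm _ _).trans this)).resolve_left ?_
    exact hne

/-- `1 - λ ^ n`. -/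
noncomputable def phi (n : ℕ) : E → ℂ := fun x => 1 - zv h hm x ^ n

theorem phi_gen (n : ℕ) : IsGeneralizedCharacter E (phi h hm n) :=
  ⟨_, _, H12.isCharacter_one, H12.isCharacter_monoidHom (lam h hm ^ n),
    funext fun x => by simp [phi, zv]⟩

theorem phi_one (n : ℕ) : phi h hm n 1 = 0 := by simp [phi, zv_one]

theorem conj_phi (n : ℕ) (x : E) : conj (phi h hm n x) = phi h hm n x⁻¹ := by
  simp [phi, conj_zv]

variable [Fintype G]

/-- The induced function. -/
noncomputable def Phi (n : ℕ) : G → ℂ := indFun E (phi h hm n)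

theorem Phi_gen (n : ℕ) : IsGeneralizedCharacter G (Phi h hm n) :=
  H13.isGeneralizedCharacter_indFun _ (phi_gen h hm n)

theorem Phi_one (n : ℕ) : Phi h hm n 1 = 0 := by
  rw [Phi, H13.indFun_apply_one]
  simp [phi_one]

theorem Phi_special {n : ℕ} (hn : n ≤ 2 * m + 1) {x : E} (hx : x ≠ 1) :
    Phi h hm n (x : G) = 2 - psi (2 * m + 1) n (zv h hm x) := by
  classical
  have hxG : (x : G) ≠ 1 := fun h0 => hx (Subtype.ext h0)
  rw [Phi, H12.indFun_apply]
  have hterm : ∀ g : G, extendByZero E (phi h hm n) (g⁻¹ * x * g) =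
      (if g ∈ normalizer (E : Set G) then phi h hm n x⁻¹ else 0) +
        (if g ∈ E then phi h hm n x - phi h hm n x⁻¹ else 0) := by
    intro g
    by_cases hgE : g ∈ E
    · have e : g⁻¹ * x * g = (x : G) := by
        rw [mul_assoc, comm h x.2 hgE, inv_mul_cancel_left]
      rw [e, if_pos hgE, if_pos (Subgroup.le_normalizer hgE), H13.extendByZero_coe]
      ring
    · by_cases hgN : g ∈ normalizer (E : Set G)
      · have e : g⁻¹ * x * g = ((x⁻¹ : E) : G) := by
          simpa using inverts h (odd_card h hm) (inv_mem hgN) (by simpa using hgE) x.2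
        rw [e, if_neg hgE, if_pos hgN, H13.extendByZero_coe, add_zero]
      · rw [if_neg hgE, if_neg hgN, add_zero]
        refine H13.extendByZero_notMem _ _ fun hm' => hgN ?_
        simpa using inv_mem (stay h x.2 hxG (g := g⁻¹) (by simpa using hm'))
  have hcard : ∀ H : Subgroup G, (Finset.univ.filter fun g : G => g ∈ H).card = Nat.card H :=
    fun H => by rw [Nat.card_eq_fintype_card, Fintype.card_subtype]
  rw [Finset.sum_congr rfl fun g _ => hterm g, Finset.sum_add_distrib, ← Finset.sum_filter,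
    ← Finset.sum_filter, Finset.sum_const, Finset.sum_const, hcard, hcard, h.card_normalizer,
    nsmul_eq_mul, nsmul_eq_mul, phi, phi, zv_inv_pow h hm x hn, psi]
  have h0 : (Nat.card E : ℂ) ≠ 0 := Nat.cast_ne_zero.mpr Nat.card_pos.ne'
  push_cast
  field_simp
  ring

theorem Phi_real (n : ℕ) (g : G) : conj (Phi h hm n g) = Phi h hm n g := by
  classical
  obtain ⟨w, hw, hwE⟩ := exists_out h
  rw [Phi, H12.indFun_apply, map_mul, map_inv₀, Complex.conj_natCast, map_sum]
  congr 1
  refine Fintype.sum_equiv (Equiv.mulRight w⁻¹) _ _ fun t => ?_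
  simp only [Equiv.coe_mulRight, mul_inv_rev, inv_inv]
  rw [show w * t⁻¹ * g * (t * w⁻¹) = w * (t⁻¹ * g * t) * w⁻¹ by group]
  by_cases hy : t⁻¹ * g * t ∈ E
  · rw [H13.extendByZero_mem _ _ hy, H13.extendByZero_mem _ _ (nmem hw hy), conj_phi]
    congr 1
    exact Subtype.ext (inverts h (odd_card h hm) hw hwE hy).symm
  · rw [H13.extendByZero_notMem _ _ hy, H13.extendByZero_notMem _ _, map_zero]
    intro hy'
    refine hy ?_
    have h2 := nmem (inv_mem hw) hy'
    rwa [show w⁻¹ * (w * (t⁻¹ * g * t) * w⁻¹) * w⁻¹⁻¹ = t⁻¹ * g * t by group] at h2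

theorem Phi_trivial {n : ℕ} (hn1 : 1 ≤ n) (hn : n ≤ 2 * m) :
    classInner (Phi h hm n) (fun _ => 1) = 1 := by
  haveI : Fintype E := Fintype.ofFinite _
  rw [Phi, H13.classInner_indFun_left _ _ (fun _ _ => rfl), H12.classInner_def]
  simp only [phi, map_one, mul_one, Finset.sum_sub_distrib, Finset.sum_const, Finset.card_univ,
    nsmul_eq_mul, sum_zv_pow]
  rw [if_neg (fun hd => by have := Nat.le_of_dvd hn1 hd; omega), sub_zero,
    ← Nat.card_eq_fintype_card, inv_mul_cancel₀]
  exact Nat.cast_ne_zero.mpr Nat.card_pos.ne'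

theorem Phi_gram {k l : ℕ} (hk : k < m) (hl : l < m) :
    classInner (Phi h hm (k + 1)) (Phi h hm (l + 1)) = if k = l then 3 else 2 := by
  classical
  haveI : Fintype E := Fintype.ofFinite _
  conv_lhs => arg 1; rw [Phi]
  rw [H13.classInner_indFun_left _ _ (φ := Phi h hm (l + 1)) (H13.indFun_isClassFunction _ _),
    H12.classInner_def]
  have hterm : ∀ x : E, phi h hm (k + 1) x * conj (Phi h hm (l + 1) (x : G)) =
      2 - zv h hm x ^ (l + 1) - zv h hm x ^ (2 * m + 1 - (l + 1)) - 2 * zv h hm x ^ (k + 1) +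
        zv h hm x ^ (k + 1 + (l + 1)) + zv h hm x ^ (k + 1 + (2 * m + 1 - (l + 1))) := by
    intro x
    by_cases hx : x = 1
    · simp [hx, phi_one, zv_one]
      norm_num
    · rw [Phi_real, Phi_special h hm (by omega) hx, psi, phi, pow_add, pow_add]
      ring
  rw [Finset.sum_congr rfl fun x _ => hterm x]
  simp only [Finset.sum_add_distrib, Finset.sum_sub_distrib, Finset.sum_const, Finset.card_univ,
    nsmul_eq_mul, ← Finset.mul_sum, sum_zv_pow]
  have d : ∀ j, 0 < j → j < 2 * m + 1 → ¬ 2 * m + 1 ∣ j := fun j h1 h2 hd => by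
    have := Nat.le_of_dvd h1 hd; omega
  rw [if_neg (d _ (by omega) (by omega)), if_neg (d _ (by omega) (by omega)),
    if_neg (d _ (by omega) (by omega)), if_neg (d _ (by omega) (by omega))]
  have h0 : (Nat.card E : ℂ) ≠ 0 := Nat.cast_ne_zero.mpr Nat.card_pos.ne'
  have hdiv : 2 * m + 1 ∣ k + 1 + (2 * m + 1 - (l + 1)) ↔ k = l := by
    refine ⟨fun ⟨i, hi⟩ => ?_, fun e => ⟨1, by omega⟩⟩
    rcases i with _ | _ | i <;> simp [Nat.mul_add] at hi <;> omega
  rw [← Nat.card_eq_fintype_card, ← hm]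
  rw [← hm] at hdiv
  by_cases hkl : k = l
  · rw [if_pos hkl, if_pos (hdiv.mpr hkl)]
    field_simp
    ring
  · rw [if_neg hkl, if_neg (fun e => hkl (hdiv.mp e))]
    field_simp
    ring

end H61.DegP
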